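import Mathlib

/-!
# Points with a unique maximal generization (helper24)

Topological preliminaries for "groupoids on fields are irreducible-ish".
-/

set_option autoImplicit false
universe u
open TopologicalSpace

namespace Groth.Agent.Lib.Helper24.Unibranch

variable {X Y : Type*} [TopologicalSpace X] [TopologicalSpace Y]

/-- `ξ` has no proper generization. -/
def IsMaxPt (ξ : X) : Prop := ∀ ζ : X, ζ ⤳ ξ → ζ = ξ

/-- `x` has at most one maximal generization. -/
def UMax (x : X) : Prop :=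
  ∀ ξ₁ ξ₂ : X, ξ₁ ⤳ x → ξ₂ ⤳ x → IsMaxPt ξ₁ → IsMaxPt ξ₂ → ξ₁ = ξ₂

theorem IsMaxPt.uMax {ξ : X} (h : IsMaxPt ξ) : UMax ξ := by
  intro ξ₁ ξ₂ h₁ h₂ _ _
  rw [h ξ₁ h₁, h ξ₂ h₂]

theorem isMaxPt_of_isGenericPoint [T0Space X] {Z : Set X} (hZ : Z ∈ irreducibleComponents X)
    {ξ : X} (hξ : IsGenericPoint ξ Z) : IsMaxPt ξ := by
  intro ζ hζ
  have h1 : IsIrreducible (closure ({ζ} : Set X)) := isIrreducible_singleton.closure
  have h2 : Z ⊆ closure ({ζ} : Set X) := by
    rw [← hξ.def]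
    exact specializes_iff_closure_subset.mp hζ
  have h3 : closure ({ζ} : Set X) ⊆ Z := hZ.2 h1 h2
  have h4 : ξ ⤳ ζ := by
    rw [specializes_iff_mem_closure, hξ.def]
    exact h3 (subset_closure rfl)
  exact (hζ.antisymm h4).eq

theorem exists_maxPt [QuasiSober X] [T0Space X] (x : X) : ∃ ξ : X, ξ ⤳ x ∧ IsMaxPt ξ := by
  have hirr : IsIrreducible (irreducibleComponent x) := isIrreducible_irreducibleComponent
  have hcl : IsClosed (irreducibleComponent x) := isClosed_irreducibleComponent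
  have hg := hirr.isGenericPoint_genericPoint hcl
  refine ⟨hirr.genericPoint, hg.specializes mem_irreducibleComponent, ?_⟩
  exact isMaxPt_of_isGenericPoint (irreducibleComponent_mem_irreducibleComponents x) hg

theorem IsMaxPt.closure_mem_irreducibleComponents [QuasiSober X] [T0Space X] {ξ : X}
    (h : IsMaxPt ξ) : closure ({ξ} : Set X) ∈ irreducibleComponents X := by
  refine ⟨isIrreducible_singleton.closure, ?_⟩
  intro s hs hle
  have hirr : IsIrreducible (closure s) := hs.closure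
  have hg := hirr.isGenericPoint_genericPoint isClosed_closure
  have h1 : hirr.genericPoint ⤳ ξ := hg.specializes (subset_closure (hle (subset_closure rfl)))
  have h2 := h _ h1
  have h3 : closure ({ξ} : Set X) = closure s := by rw [← h2]; exact hg.def
  rw [h3]
  exact subset_closure

theorem IsMaxPt.map {f : X → Y} (hf : GeneralizingMap f) {ξ : X} (h : IsMaxPt ξ) :
    IsMaxPt (f ξ) := by
  intro ζ hζ
  obtain ⟨ζ', h1, h2⟩ := hf hζ
  rw [← h2, h ζ' h1]

/-- A2: unibranchness descends along generalizing maps. -/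
theorem UMax.map [QuasiSober X] [T0Space X] {f : X → Y} (hc : Continuous f)
    (hf : GeneralizingMap f) {x : X} (h : UMax x) : UMax (f x) := by
  intro ξ₁ ξ₂ h₁ h₂ m₁ m₂
  obtain ⟨a₁, ha₁, hfa₁⟩ := hf h₁
  obtain ⟨a₂, ha₂, hfa₂⟩ := hf h₂
  obtain ⟨b₁, hb₁, mb₁⟩ := exists_maxPt a₁
  obtain ⟨b₂, hb₂, mb₂⟩ := exists_maxPt a₂
  have e₁ : f b₁ = ξ₁ := m₁ _ (hfa₁ ▸ hb₁.map hc)
  have e₂ : f b₂ = ξ₂ := m₂ _ (hfa₂ ▸ hb₂.map hc)
  have := h b₁ b₂ (hb₁.trans ha₁) (hb₂.trans ha₂) mb₁ mb₂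
  rw [← e₁, ← e₂, this]

/-- A3: unibranchness ascends along generalizing maps with irreducible preimages. -/
theorem UMax.of_map [QuasiSober X] [T0Space X] {f : X → Y} (hc : Continuous f)
    (hf : GeneralizingMap f)
    (hirr : ∀ s : Set Y, IsIrreducible s → IsIrreducible (f ⁻¹' s))
    {x : X} (h : UMax (f x)) : UMax x := by
  intro ξ₁ ξ₂ h₁ h₂ m₁ m₂
  have e : f ξ₁ = f ξ₂ := h _ _ (h₁.map hc) (h₂.map hc) (m₁.map hf) (m₂.map hf)
  have hI : IsIrreducible (f ⁻¹' closure ({f ξ₁} : Set Y)) :=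
    hirr _ isIrreducible_singleton.closure
  have hcl : IsClosed (f ⁻¹' closure ({f ξ₁} : Set Y)) := isClosed_closure.preimage hc
  have hg := hI.isGenericPoint_genericPoint hcl
  have s₁ : hI.genericPoint ⤳ ξ₁ := hg.specializes (subset_closure rfl)
  have s₂ : hI.genericPoint ⤳ ξ₂ := hg.specializes (by
    show f ξ₂ ∈ closure ({f ξ₁} : Set Y)
    rw [← e]; exact subset_closure rfl)
  rw [← m₁ _ s₁, ← m₂ _ s₂]

theorem UMax.existsUnique_irreducibleComponent [QuasiSober X] [T0Space X] {x : X}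
    (h : UMax x) : ∃! Z : Set X, Z ∈ irreducibleComponents X ∧ x ∈ Z := by
  refine ⟨irreducibleComponent x, ⟨irreducibleComponent_mem_irreducibleComponents x,
    mem_irreducibleComponent⟩, ?_⟩
  have key : ∀ Z : Set X, Z ∈ irreducibleComponents X → x ∈ Z →
      ∃ ξ : X, ξ ⤳ x ∧ IsMaxPt ξ ∧ closure {ξ} = Z := by
    intro Z hZ hx
    have hg := hZ.1.isGenericPoint_genericPoint (isClosed_of_mem_irreducibleComponents Z hZ)
    exact ⟨_, hg.specializes hx, isMaxPt_of_isGenericPoint hZ hg, hg.def⟩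
  rintro Z ⟨hZ, hx⟩
  obtain ⟨ξ₁, s₁, m₁, c₁⟩ := key Z hZ hx
  obtain ⟨ξ₂, s₂, m₂, c₂⟩ := key _ (irreducibleComponent_mem_irreducibleComponents x)
    mem_irreducibleComponent
  rw [← c₁, ← c₂, h ξ₁ ξ₂ s₁ s₂ m₁ m₂]

end Groth.Agent.Lib.Helper24.Unibranch
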