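import Mathlib
import Groth.Agent.Lib.Helper24.Unibranch.Top

/-!
# Unibranch points of schemes (helper24)
-/

set_option autoImplicit false
universe u
open TopologicalSpace CategoryTheory AlgebraicGeometry

namespace Groth.Agent.Lib.Helper24.Unibranch

/-- A point with a unique maximal generization has a local ring with at most one minimal prime. -/
theorem minimalPrimes_stalk_subsingleton {X : Scheme.{u}} {x : X} (h : UMax x) :
    (minimalPrimes (X.presheaf.stalk x)).Subsingleton := by
  intro p hp q hq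
  have hemb := (X.fromSpecStalk x).isEmbedding
  have hrange : ∀ P : Spec (X.presheaf.stalk x), X.fromSpecStalk x P ⤳ x := by
    intro P
    have : X.fromSpecStalk x P ∈ Set.range (X.fromSpecStalk x) := ⟨P, rfl⟩
    rw [Scheme.range_fromSpecStalk] at this
    exact this
  have key : ∀ p : Ideal (X.presheaf.stalk x), ∀ hp : p ∈ minimalPrimes (X.presheaf.stalk x),
      IsMaxPt (X.fromSpecStalk x ⟨p, hp.1.1⟩) := by
    intro p hp ζ hζ
    have h1 : ζ ⤳ x := hζ.trans (hrange _)
    have h2 : ζ ∈ Set.range (X.fromSpecStalk x) := by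
      rw [Scheme.range_fromSpecStalk]; exact h1
    obtain ⟨Q, rfl⟩ := h2
    rw [hemb.isInducing.specializes_iff] at hζ
    have h3 : Q.asIdeal ≤ p :=
      (PrimeSpectrum.le_iff_specializes (R := X.presheaf.stalk x) Q ⟨p, hp.1.1⟩).mpr hζ
    have h4 : p ≤ Q.asIdeal := hp.2 ⟨Q.isPrime, bot_le⟩ h3
    congr 1
    exact PrimeSpectrum.ext (le_antisymm h3 h4)
  have := h _ _ (hrange ⟨p, hp.1.1⟩) (hrange ⟨q, hq.1.1⟩) (key p hp) (key q hq)
  have h5 := hemb.injective this
  exact congrArg PrimeSpectrum.asIdeal h5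

theorem generalizingMap_of_flat {X Y : Scheme.{u}} (f : X ⟶ Y) [Flat f] :
    GeneralizingMap f := Flat.generalizingMap f

theorem UMax.map_flat {X Y : Scheme.{u}} (f : X ⟶ Y) [Flat f] {x : X} (h : UMax x) :
    UMax (f x) :=
  h.map f.continuous (Flat.generalizingMap f)

theorem UMax.of_map_geomIrr {X Y : Scheme.{u}} (f : X ⟶ Y) [Flat f] [GeometricallyIrreducible f]
    [UniversallyOpen f] {x : X} (h : UMax (f x)) : UMax x :=
  UMax.of_map f.continuous (Flat.generalizingMap f)
    (fun _ hs => f.isIrreducible_preimage f.isOpenMap hs) h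

theorem UMax.iso {X Y : Scheme.{u}} (f : X ⟶ Y) [IsIso f] {x : X} : UMax (f x) ↔ UMax x := by
  constructor
  · intro h
    have := h.map_flat (inv f)
    rwa [← Scheme.Hom.comp_apply, IsIso.hom_inv_id] at this
  · exact fun h => h.map_flat f

end Groth.Agent.Lib.Helper24.Unibranch
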