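import Mathlib
import Groth.Prelude.Def_Grpd
import Groth.Agent.Lib.Helper4.GrpdCalc

/-!
# Translations in a groupoid scheme (helper24)

For a `T`-point `ρ` of `R`, left composition with `ρ` identifies the arrows with target
`ρ ≫ s` with the arrows with target `ρ ≫ t` (as schemes over `T`).
-/

set_option autoImplicit false
universe u
open CategoryTheory AlgebraicGeometry Limits

namespace Groth.Agent.Lib.Helper24.Unibranch

open Grpd Groth.Agent.Lib.Helper4.GrpdCalc

variable {S : Scheme.{u}} (G : GroupoidScheme S) {T : Scheme.{u}}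

/-- the identity section of `R_σ = R ×_{t,U,σ} T → T` -/
noncomputable def eps (σ : T ⟶ G.U) : T ⟶ pullback G.t σ :=
  pullback.lift (σ ≫ G.e) (𝟙 T) (by rw [Category.assoc, G.e_t, Category.comp_id, Category.id_comp])

@[reassoc (attr := simp)]
theorem eps_fst (σ : T ⟶ G.U) : eps G σ ≫ pullback.fst G.t σ = σ ≫ G.e :=
  pullback.lift_fst _ _ _

@[reassoc (attr := simp)]
theorem eps_snd (σ : T ⟶ G.U) : eps G σ ≫ pullback.snd G.t σ = 𝟙 T :=
  pullback.lift_snd _ _ _

theorem trans_cond (ρ : T ⟶ G.R) :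
    (pullback.snd G.t (ρ ≫ G.s) ≫ ρ) ≫ G.s = pullback.fst G.t (ρ ≫ G.s) ≫ G.t := by
  rw [Category.assoc]; exact pullback.condition.symm

/-- left translation by `ρ` -/
noncomputable def trans (ρ : T ⟶ G.R) : pullback G.t (ρ ≫ G.s) ⟶ pullback G.t (ρ ≫ G.t) :=
  pullback.lift (cmp G (pullback.snd _ _ ≫ ρ) (pullback.fst _ _) (trans_cond G ρ))
    (pullback.snd _ _) (by rw [cmp_t, Category.assoc])

theorem transInv_cond (ρ : T ⟶ G.R) :
    ((pullback.snd G.t (ρ ≫ G.t) ≫ ρ) ≫ G.i) ≫ G.s = pullback.fst G.t (ρ ≫ G.t) ≫ G.t := by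
  rw [Category.assoc, Category.assoc, G.i_s]; exact pullback.condition.symm

/-- left translation by `ρ⁻¹` -/
noncomputable def transInv (ρ : T ⟶ G.R) : pullback G.t (ρ ≫ G.t) ⟶ pullback G.t (ρ ≫ G.s) :=
  pullback.lift (cmp G ((pullback.snd _ _ ≫ ρ) ≫ G.i) (pullback.fst _ _) (transInv_cond G ρ))
    (pullback.snd _ _) (by rw [cmp_t]; simp only [Category.assoc, G.i_t])

@[reassoc (attr := simp)]
theorem trans_snd (ρ : T ⟶ G.R) : trans G ρ ≫ pullback.snd _ _ = pullback.snd _ _ :=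
  pullback.lift_snd _ _ _

@[reassoc (attr := simp)]
theorem transInv_snd (ρ : T ⟶ G.R) : transInv G ρ ≫ pullback.snd _ _ = pullback.snd _ _ :=
  pullback.lift_snd _ _ _

theorem trans_fst (ρ : T ⟶ G.R) : trans G ρ ≫ pullback.fst _ _ =
    cmp G (pullback.snd _ _ ≫ ρ) (pullback.fst _ _) (trans_cond G ρ) :=
  pullback.lift_fst _ _ _

theorem transInv_fst (ρ : T ⟶ G.R) : transInv G ρ ≫ pullback.fst _ _ =
    cmp G ((pullback.snd _ _ ≫ ρ) ≫ G.i) (pullback.fst _ _) (transInv_cond G ρ) :=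
  pullback.lift_fst _ _ _

theorem trans_transInv (ρ : T ⟶ G.R) : trans G ρ ≫ transInv G ρ = 𝟙 _ := by
  apply pullback.hom_ext
  · rw [Category.assoc, transInv_fst, Category.id_comp]
    have h1 : (trans G ρ ≫ (pullback.snd G.t (ρ ≫ G.t) ≫ ρ) ≫ G.i) =
        (pullback.snd G.t (ρ ≫ G.s) ≫ ρ) ≫ G.i := by
      rw [← Category.assoc, ← Category.assoc, trans_snd]
    have h2 : trans G ρ ≫ pullback.fst G.t (ρ ≫ G.t) =
        cmp G (pullback.snd _ _ ≫ ρ) (pullback.fst _ _) (trans_cond G ρ) := trans_fst G ρ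
    rw [precomp G (trans G ρ) _ _ _ (by
      rw [h1, h2, cmp_t]; simp only [Category.assoc, G.i_s])]
    rw [cmp_congr G h1 h2 _ (by rw [cmp_t]; simp only [Category.assoc, G.i_s])]
    exact L1 G _ _ _ _
  · rw [Category.assoc, transInv_snd, trans_snd, Category.id_comp]

theorem transInv_trans (ρ : T ⟶ G.R) : transInv G ρ ≫ trans G ρ = 𝟙 _ := by
  apply pullback.hom_ext
  · rw [Category.assoc, trans_fst, Category.id_comp]
    have h1 : (transInv G ρ ≫ pullback.snd G.t (ρ ≫ G.s) ≫ ρ) =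
        pullback.snd G.t (ρ ≫ G.t) ≫ ρ := by
      rw [← Category.assoc, transInv_snd]
    have h2 : transInv G ρ ≫ pullback.fst G.t (ρ ≫ G.s) =
        cmp G ((pullback.snd _ _ ≫ ρ) ≫ G.i) (pullback.fst _ _) (transInv_cond G ρ) :=
      transInv_fst G ρ
    rw [precomp G (transInv G ρ) _ _ _ (by
      rw [h1, h2, cmp_t]; simp only [Category.assoc, G.i_t])]
    rw [cmp_congr G h1 h2 _ (by rw [cmp_t]; simp only [Category.assoc, G.i_t])]
    exact L2 G _ _ _ _
  · rw [Category.assoc, trans_snd, transInv_snd, Category.id_comp]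

instance (ρ : T ⟶ G.R) : IsIso (trans G ρ) :=
  ⟨transInv G ρ, trans_transInv G ρ, transInv_trans G ρ⟩

/-- translation by `ρ` sends the identity to `ρ` -/
theorem eps_trans (ρ : T ⟶ G.R) :
    eps G (ρ ≫ G.s) ≫ trans G ρ = pullback.lift ρ (𝟙 T) (Category.id_comp _).symm := by
  apply pullback.hom_ext
  · rw [Category.assoc, trans_fst, pullback.lift_fst]
    have h1 : eps G (ρ ≫ G.s) ≫ pullback.snd G.t (ρ ≫ G.s) ≫ ρ = ρ := by
      rw [← Category.assoc, eps_snd, Category.id_comp]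
    have h2 : eps G (ρ ≫ G.s) ≫ pullback.fst G.t (ρ ≫ G.s) = ρ ≫ G.s ≫ G.e := by
      rw [eps_fst, Category.assoc]
    rw [precomp G (eps G (ρ ≫ G.s)) _ _ _ (by
      rw [h1, h2, Category.assoc, Category.assoc, G.e_t, Category.comp_id])]
    rw [cmp_congr G h1 h2 _ (by rw [Category.assoc, Category.assoc, G.e_t, Category.comp_id])]
    exact cmp_e G ρ _ rfl _
  · rw [Category.assoc, trans_snd, eps_snd, pullback.lift_snd]

/-- base change `R_{σ'} → R_σ` along `j : T' → T` with `j ≫ σ = σ'` -/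
noncomputable def bc {T' : Scheme.{u}} {σ : T ⟶ G.U} {σ' : T' ⟶ G.U} (j : T' ⟶ T)
    (h : j ≫ σ = σ') : pullback G.t σ' ⟶ pullback G.t σ :=
  pullback.lift (pullback.fst _ _) (pullback.snd _ _ ≫ j)
    (by rw [pullback.condition, Category.assoc, h])

@[reassoc (attr := simp)]
theorem bc_fst {T' : Scheme.{u}} {σ : T ⟶ G.U} {σ' : T' ⟶ G.U} (j : T' ⟶ T)
    (h : j ≫ σ = σ') : bc G j h ≫ pullback.fst _ _ = pullback.fst _ _ :=
  pullback.lift_fst _ _ _

@[reassoc (attr := simp)]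
theorem bc_snd {T' : Scheme.{u}} {σ : T ⟶ G.U} {σ' : T' ⟶ G.U} (j : T' ⟶ T)
    (h : j ≫ σ = σ') : bc G j h ≫ pullback.snd _ _ = pullback.snd _ _ ≫ j :=
  pullback.lift_snd _ _ _

theorem isPullback_bc {T' : Scheme.{u}} {σ : T ⟶ G.U} {σ' : T' ⟶ G.U} (j : T' ⟶ T)
    (h : j ≫ σ = σ') :
    IsPullback (bc G j h) (pullback.snd G.t σ') (pullback.snd G.t σ) j := by
  refine IsPullback.of_right ?_ (bc_snd G j h) (IsPullback.of_hasPullback G.t σ)
  rw [bc_fst, h]
  exact IsPullback.of_hasPullback G.t σ'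

theorem eps_bc {T' : Scheme.{u}} {σ : T ⟶ G.U} {σ' : T' ⟶ G.U} (j : T' ⟶ T)
    (h : j ≫ σ = σ') : eps G σ' ≫ bc G j h = j ≫ eps G σ := by
  apply pullback.hom_ext
  · rw [Category.assoc, bc_fst, eps_fst, Category.assoc, eps_fst, ← Category.assoc, h]
  · rw [Category.assoc, bc_snd, eps_snd_assoc, Category.assoc, eps_snd, Category.comp_id]

/-- The fibre of `R_σ → R` over the identity section is the identity section. -/
theorem mem_range_eps {σ : T ⟶ G.U} (w : ↥(pullback G.t σ))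
    (hw : pullback.fst G.t σ w ∈ Set.range G.e) : w ∈ Set.range (eps G σ) := by
  have h1 : w ∈ Set.range (pullback.fst (pullback.fst G.t σ) G.e) := by
    rw [Scheme.Pullback.range_fst]; exact hw
  obtain ⟨p, rfl⟩ := h1
  have key : pullback.fst (pullback.fst G.t σ) G.e ≫ pullback.snd G.t σ ≫ eps G σ =
      pullback.fst (pullback.fst G.t σ) G.e := by
    apply pullback.hom_ext
    · have c1 : pullback.snd G.t σ ≫ σ = pullback.fst G.t σ ≫ G.t := pullback.condition.symm
      have c2 : pullback.fst (pullback.fst G.t σ) G.e ≫ pullback.fst G.t σ =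
          pullback.snd (pullback.fst G.t σ) G.e ≫ G.e := pullback.condition
      rw [Category.assoc, Category.assoc, eps_fst, reassoc_of% c1, reassoc_of% c2, c2,
        reassoc_of% G.e_t]
    · rw [Category.assoc, Category.assoc, eps_snd, Category.comp_id]
  refine ⟨(pullback.fst (pullback.fst G.t σ) G.e ≫ pullback.snd G.t σ) p, ?_⟩
  rw [← Scheme.Hom.comp_apply, Category.assoc, key]

end Groth.Agent.Lib.Helper24.Unibranch
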