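import Mathlib
import Groth.Prelude.Def_Grpd
import Groth.Agent.Lib.Helper24.Unibranch.Sch
import Groth.Agent.Lib.Helper24.Unibranch.Trans
import Groth.Agent.Lib.Helper22.SchGeomIrr

/-!
# Groupoids on fields are unibranch everywhere (helper24)
-/

set_option autoImplicit false
set_option linter.style.haveILetI false
universe u
open CategoryTheory AlgebraicGeometry Limits

namespace Groth.Agent.Lib.Helper24.Unibranch

open Grpd Groth.Agent.Lib.Helper4.GrpdCalc

instance subsingleton_spec_field' {K : Type u} [Field K] :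
    Subsingleton ↥(Spec (CommRingCat.of K)) :=
  inferInstanceAs (Subsingleton (PrimeSpectrum K))

instance nonempty_spec_field' {K : Type u} [Field K] :
    Nonempty ↥(Spec (CommRingCat.of K)) :=
  inferInstanceAs (Nonempty (PrimeSpectrum K))

variable {S : Scheme.{u}} (G : GroupoidScheme S) (k : Type u) [Field k]
  (eU : G.U ≅ Spec (CommRingCat.of k))

include eU in
theorem flat_toU {T : Scheme.{u}} (σ : T ⟶ G.U) : Flat σ := by
  have h : σ = (σ ≫ eU.hom) ≫ eU.inv := by
    rw [Category.assoc, Iso.hom_inv_id, Category.comp_id]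
  rw [h]
  infer_instance

include eU in
theorem subsingleton_U : Subsingleton ↥G.U :=
  eU.hom.homeomorph.subsingleton

/-- the identity point of `R_σ` is unibranch -/
def P {K : Type u} [Field K] (σ : Spec (CommRingCat.of K) ⟶ G.U) : Prop :=
  ∀ x : ↥(Spec (CommRingCat.of K)), UMax (eps G σ x)

section BC

variable {K K' : Type u} [Field K] [Field K']
  (j : Spec (CommRingCat.of K') ⟶ Spec (CommRingCat.of K))
  {σ : Spec (CommRingCat.of K) ⟶ G.U} {σ' : Spec (CommRingCat.of K') ⟶ G.U} (h : j ≫ σ = σ')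

instance flat_bc : Flat (bc G j h) :=
  MorphismProperty.of_isPullback (P := @Flat) (isPullback_bc G j h).flip inferInstance

instance universallyOpen_bc : UniversallyOpen (bc G j h) :=
  MorphismProperty.of_isPullback (P := @UniversallyOpen) (isPullback_bc G j h).flip inferInstance

theorem geometricallyIrreducible_of_isAlgClosed [IsAlgClosed K] : GeometricallyIrreducible j := by
  obtain ⟨φ, rfl⟩ := Spec.map_surjective j
  algebraize [φ.hom]
  exact Groth.Agent.Lib.Helper22.SchGeomIrr.geometricallyIrreducible_specMap (k := K) (K := K')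

theorem geometricallyIrreducible_bc [IsAlgClosed K] : GeometricallyIrreducible (bc G j h) :=
  MorphismProperty.of_isPullback (P := @GeometricallyIrreducible) (isPullback_bc G j h).flip
    (geometricallyIrreducible_of_isAlgClosed j)

include j h in
theorem bc_eps_apply (x' : ↥(Spec (CommRingCat.of K'))) (x : ↥(Spec (CommRingCat.of K))) :
    bc G j h (eps G σ' x') = eps G σ x := by
  rw [← Scheme.Hom.comp_apply, eps_bc, Scheme.Hom.comp_apply]
  congr 1
  exact Subsingleton.elim _ _

include j h in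
theorem P_bc [IsAlgClosed K] : P G σ ↔ P G σ' := by
  constructor
  · intro hP x'
    haveI := geometricallyIrreducible_bc G j h
    apply UMax.of_map_geomIrr (bc G j h)
    rw [bc_eps_apply G j h x' (j x')]
    exact hP _
  · intro hP x
    obtain ⟨x'⟩ := (inferInstance : Nonempty ↥(Spec (CommRingCat.of K')))
    rw [← bc_eps_apply G j h x' x]
    exact (hP x').map_flat (bc G j h)

end BC

include eU in
/-- independence of the algebraically closed point -/
theorem P_ind {K₁ K₂ : Type u} [Field K₁] [Field K₂] [IsAlgClosed K₁] [IsAlgClosed K₂]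
    (σ₁ : Spec (CommRingCat.of K₁) ⟶ G.U) (σ₂ : Spec (CommRingCat.of K₂) ⟶ G.U) :
    P G σ₁ ↔ P G σ₂ := by
  haveI := subsingleton_U G k eU
  obtain ⟨x₁⟩ := (inferInstance : Nonempty ↥(Spec (CommRingCat.of K₁)))
  obtain ⟨x₂⟩ := (inferInstance : Nonempty ↥(Spec (CommRingCat.of K₂)))
  obtain ⟨w, -, -⟩ := Scheme.Pullback.exists_preimage_pullback (f := σ₁) (g := σ₂) x₁ x₂
    (Subsingleton.elim _ _)
  let Ω := AlgebraicClosure ((pullback σ₁ σ₂).residueField w)
  let m : Spec (CommRingCat.of Ω) ⟶ pullback σ₁ σ₂ :=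
    Spec.map (CommRingCat.ofHom (algebraMap ((pullback σ₁ σ₂).residueField w) Ω)) ≫
      (pullback σ₁ σ₂).fromSpecResidueField w
  have h : (m ≫ pullback.fst σ₁ σ₂) ≫ σ₁ = (m ≫ pullback.snd σ₁ σ₂) ≫ σ₂ := by
    simp only [Category.assoc, pullback.condition]
  exact (P_bc G (m ≫ pullback.fst σ₁ σ₂) rfl).trans (P_bc G (m ≫ pullback.snd σ₁ σ₂) h.symm).symm

include eU in
/-- the generic translation argument -/
theorem exists_P : ∃ (K' : Type u) (_ : Field K') (_ : IsAlgClosed K')
    (σ' : Spec (CommRingCat.of K') ⟶ G.U), P G σ' := by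
  let K₀ := AlgebraicClosure k
  let σ₀ : Spec (CommRingCat.of K₀) ⟶ G.U :=
    Spec.map (CommRingCat.ofHom (algebraMap k K₀)) ≫ eU.inv
  obtain ⟨pt₀⟩ := (inferInstance : Nonempty ↥(Spec (CommRingCat.of K₀)))
  obtain ⟨η', -, hη'⟩ := exists_maxPt (eps G σ₀ pt₀)
  let R₀ := pullback G.t σ₀
  let K' := AlgebraicClosure (R₀.residueField η')
  let x₀ : Spec (CommRingCat.of K') ⟶ R₀ :=
    Spec.map (CommRingCat.ofHom (algebraMap (R₀.residueField η') K')) ≫
      R₀.fromSpecResidueField η'
  have hx₀ : ∀ x, x₀ x = η' := by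
    intro x
    rw [Scheme.Hom.comp_apply]
    exact Scheme.fromSpecResidueField_apply _ _
  let ρ' : Spec (CommRingCat.of K') ⟶ G.R := x₀ ≫ pullback.fst G.t σ₀
  let j' : Spec (CommRingCat.of K') ⟶ Spec (CommRingCat.of K₀) := x₀ ≫ pullback.snd G.t σ₀
  have h : j' ≫ σ₀ = ρ' ≫ G.t := by
    simp only [j', ρ', Category.assoc]
    rw [pullback.condition]
  let x' : Spec (CommRingCat.of K') ⟶ pullback G.t (ρ' ≫ G.t) :=
    pullback.lift ρ' (𝟙 _) (Category.id_comp _).symm
  have hx' : x' ≫ bc G j' h = x₀ := by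
    apply pullback.hom_ext
    · rw [Category.assoc, bc_fst, pullback.lift_fst]
    · rw [Category.assoc, bc_snd, pullback.lift_snd_assoc]
      exact Category.id_comp _
  refine ⟨K', inferInstance, inferInstance, ρ' ≫ G.s, ?_⟩
  intro x
  have h1 : UMax (bc G j' h (x' x)) := by
    rw [← Scheme.Hom.comp_apply, hx', hx₀]
    exact hη'.uMax
  haveI := geometricallyIrreducible_bc G j' h
  have h2 : UMax (x' x) := UMax.of_map_geomIrr (bc G j' h) h1
  have h3 : x' = eps G (ρ' ≫ G.s) ≫ trans G ρ' := (eps_trans G ρ').symm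
  rw [h3, Scheme.Hom.comp_apply, UMax.iso] at h2
  exact h2

include eU in
theorem P_all {K : Type u} [Field K] [IsAlgClosed K] (σ : Spec (CommRingCat.of K) ⟶ G.U) :
    P G σ := by
  obtain ⟨K', _, _, σ', h⟩ := exists_P G k eU
  exact (P_ind G k eU σ' σ).mp h

include eU in
/-- Every point of `R` has a unique maximal generization. -/
theorem uMax_all (r : ↥G.R) : UMax r := by
  let K := AlgebraicClosure (G.R.residueField r)
  let ρ : Spec (CommRingCat.of K) ⟶ G.R :=
    Spec.map (CommRingCat.ofHom (algebraMap (G.R.residueField r) K)) ≫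
      G.R.fromSpecResidueField r
  obtain ⟨pt⟩ := (inferInstance : Nonempty ↥(Spec (CommRingCat.of K)))
  have hρ : ρ pt = r := by
    rw [Scheme.Hom.comp_apply]
    exact Scheme.fromSpecResidueField_apply _ _
  have h1 : UMax (eps G (ρ ≫ G.s) pt) := P_all G k eU (ρ ≫ G.s) pt
  rw [← UMax.iso (trans G ρ), ← Scheme.Hom.comp_apply, eps_trans] at h1
  haveI : Flat (ρ ≫ G.t) := flat_toU G k eU _
  have h2 := h1.map_flat (pullback.fst G.t (ρ ≫ G.t))
  rw [← Scheme.Hom.comp_apply, pullback.lift_fst, hρ] at h2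
  exact h2

include eU in
theorem main1882 :
    (∀ r : G.R, (minimalPrimes (G.R.presheaf.stalk r)).Subsingleton) ∧
      ∃! Z : Set G.R, Z ∈ irreducibleComponents (G.R : Type u) ∧
        G.e (eU.inv (IsLocalRing.closedPoint k)) ∈ Z :=
  ⟨fun r => minimalPrimes_stalk_subsingleton (uMax_all G k eU r),
    (uMax_all G k eU _).existsUnique_irreducibleComponent⟩

end Groth.Agent.Lib.Helper24.Unibranch
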