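import Mathlib
import Groth.Prelude.Def_Grpd
import Groth.Agent.Lib.Helper24.Unibranch.Trans
import Groth.Agent.Lib.Helper4.GrpdDense

/-!
# Fibres of `s` over points with the same target are isomorphic after a field extension (helper24)
-/

set_option autoImplicit false
universe u
open CategoryTheory AlgebraicGeometry Limits

namespace Groth.Agent.Lib.Helper24.Unibranch

open Grpd Groth.Agent.Lib.Helper4.GrpdCalc

variable {S : Scheme.{u}} (G : GroupoidScheme S) {T : Scheme.{u}}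

/-- inversion `s`-fibre → `t`-fibre -/
noncomputable def invST (σ : T ⟶ G.U) : pullback G.s σ ⟶ pullback G.t σ :=
  pullback.lift (pullback.fst _ _ ≫ G.i) (pullback.snd _ _)
    (by rw [Category.assoc, G.i_t, pullback.condition])

/-- inversion `t`-fibre → `s`-fibre -/
noncomputable def invTS (σ : T ⟶ G.U) : pullback G.t σ ⟶ pullback G.s σ :=
  pullback.lift (pullback.fst _ _ ≫ G.i) (pullback.snd _ _)
    (by rw [Category.assoc, G.i_s, pullback.condition])

@[reassoc (attr := simp)]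
theorem invST_fst (σ : T ⟶ G.U) : invST G σ ≫ pullback.fst _ _ = pullback.fst _ _ ≫ G.i :=
  pullback.lift_fst _ _ _
@[reassoc (attr := simp)]
theorem invST_snd (σ : T ⟶ G.U) : invST G σ ≫ pullback.snd _ _ = pullback.snd _ _ :=
  pullback.lift_snd _ _ _
@[reassoc (attr := simp)]
theorem invTS_fst (σ : T ⟶ G.U) : invTS G σ ≫ pullback.fst _ _ = pullback.fst _ _ ≫ G.i :=
  pullback.lift_fst _ _ _
@[reassoc (attr := simp)]
theorem invTS_snd (σ : T ⟶ G.U) : invTS G σ ≫ pullback.snd _ _ = pullback.snd _ _ :=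
  pullback.lift_snd _ _ _

theorem invST_invTS (σ : T ⟶ G.U) : invST G σ ≫ invTS G σ = 𝟙 _ := by
  apply pullback.hom_ext
  · rw [Category.assoc, invTS_fst, invST_fst_assoc, Groth.Agent.Lib.Helper4.GrpdDense.i_i,
      Category.comp_id, Category.id_comp]
  · rw [Category.assoc, invTS_snd, invST_snd, Category.id_comp]

theorem invTS_invST (σ : T ⟶ G.U) : invTS G σ ≫ invST G σ = 𝟙 _ := by
  apply pullback.hom_ext
  · rw [Category.assoc, invST_fst, invTS_fst_assoc, Groth.Agent.Lib.Helper4.GrpdDense.i_i,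
      Category.comp_id, Category.id_comp]
  · rw [Category.assoc, invST_snd, invTS_snd, Category.id_comp]

instance (σ : T ⟶ G.U) : IsIso (invST G σ) := ⟨invTS G σ, invST_invTS G σ, invTS_invST G σ⟩
instance (σ : T ⟶ G.U) : IsIso (invTS G σ) := ⟨invST G σ, invTS_invST G σ, invST_invTS G σ⟩

theorem main7498 (r r' : G.R) (h : G.t r = G.t r') :
    ∃ (k : Type u) (_ : Field k) (a b : Spec (CommRingCat.of k) ⟶ G.U)
      (φ : pullback G.s a ≅ pullback G.s b) (p : ↑(pullback G.s a)),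
      a (IsLocalRing.closedPoint k) = G.s r ∧ b (IsLocalRing.closedPoint k) = G.s r' ∧
        φ.hom ≫ pullback.snd G.s b = pullback.snd G.s a ∧ pullback.fst G.s a p = r ∧
          pullback.fst G.s b (φ.hom p) = r' := by
  obtain ⟨w, hw1, hw2⟩ := Scheme.Pullback.exists_preimage_pullback (f := G.t) (g := G.t) r r' h
  let k : Type u := (pullback G.t G.t).residueField w
  let x : Spec (CommRingCat.of k) ⟶ pullback G.t G.t := (pullback G.t G.t).fromSpecResidueField w
  let ρ : Spec (CommRingCat.of k) ⟶ G.R := x ≫ pullback.fst G.t G.t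
  let ρ' : Spec (CommRingCat.of k) ⟶ G.R := x ≫ pullback.snd G.t G.t
  have hρρ' : ρ ≫ G.t = ρ' ≫ G.t := by
    simp only [ρ, ρ', Category.assoc, pullback.condition]
  have hx : ∀ y, x y = w := fun y => Scheme.fromSpecResidueField_apply _ _
  have hρ : ∀ y, ρ y = r := fun y => by rw [Scheme.Hom.comp_apply, hx, hw1]
  have hρ' : ∀ y, ρ' y = r' := fun y => by rw [Scheme.Hom.comp_apply, hx, hw2]
  clear_value ρ ρ'
  have hτ : (ρ' ≫ G.i) ≫ G.s = ρ ≫ G.t := by rw [Category.assoc, G.i_s, hρρ']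
  let τ : Spec (CommRingCat.of k) ⟶ G.R := cmp G (ρ' ≫ G.i) ρ hτ
  have hτs : τ ≫ G.s = ρ ≫ G.s := cmp_s G _ _ _
  have hτt : τ ≫ G.t = ρ' ≫ G.s := by
    rw [cmp_t, Category.assoc, G.i_t]
  have hL3 : ∀ hc, cmp G τ (ρ ≫ G.i) hc = ρ' ≫ G.i := fun hc => L3 G ρ (ρ' ≫ G.i) hτ hc
  clear_value τ
  let φ : pullback G.s (τ ≫ G.s) ≅ pullback G.s (τ ≫ G.t) :=
    asIso (invST G (τ ≫ G.s) ≫ trans G τ ≫ invTS G (τ ≫ G.t))
  let q : Spec (CommRingCat.of k) ⟶ pullback G.s (τ ≫ G.s) :=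
    pullback.lift ρ (𝟙 _) (by rw [Category.id_comp, hτs])
  refine ⟨k, inferInstance, τ ≫ G.s, τ ≫ G.t, φ, q (IsLocalRing.closedPoint k), ?_, ?_, ?_, ?_, ?_⟩
  · rw [hτs, Scheme.Hom.comp_apply, hρ]
  · rw [hτt, Scheme.Hom.comp_apply, hρ']
  · simp only [φ, asIso_hom, Category.assoc, invTS_snd, trans_snd, invST_snd]
  · rw [← Scheme.Hom.comp_apply, pullback.lift_fst, hρ]
  · rw [← Scheme.Hom.comp_apply, ← Scheme.Hom.comp_apply]
    have key : q ≫ φ.hom ≫ pullback.fst G.s (τ ≫ G.t) = ρ' := by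
      simp only [φ, asIso_hom, Category.assoc, invTS_fst]
      have h1 : q ≫ invST G (τ ≫ G.s) ≫ trans G τ ≫ pullback.fst G.t (τ ≫ G.t) = ρ' ≫ G.i := by
        rw [trans_fst]
        have e1 : (q ≫ invST G (τ ≫ G.s)) ≫ pullback.snd G.t (τ ≫ G.s) ≫ τ = τ := by
          rw [Category.assoc, invST_snd_assoc, pullback.lift_snd_assoc, Category.id_comp]
        have e2 : (q ≫ invST G (τ ≫ G.s)) ≫ pullback.fst G.t (τ ≫ G.s) = ρ ≫ G.i := by
          rw [Category.assoc, invST_fst, pullback.lift_fst_assoc]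
        have hc : τ ≫ G.s = (ρ ≫ G.i) ≫ G.t := by rw [hτs, Category.assoc, G.i_t]
        rw [← Category.assoc q, precomp G (q ≫ invST G (τ ≫ G.s)) _ _ _ (by rw [e1, e2]; exact hc)]
        rw [cmp_congr G e1 e2 _ hc]
        exact hL3 hc
      have h2 := congrArg (· ≫ G.i) h1
      simp only [Category.assoc] at h2
      rw [h2, Groth.Agent.Lib.Helper4.GrpdDense.i_i, Category.comp_id]
    rw [key, hρ']

end Groth.Agent.Lib.Helper24.Unibranch
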