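import Mathlib

/-!
# Conjugating two embeddings of a field inside a big algebraically closed field (helper24)
-/

set_option autoImplicit false
set_option linter.style.haveILetI false
universe u
open Cardinal

namespace Groth.Agent.Lib.Helper24.Unibranch

/-- Two algebraically closed extensions of `k` with the same transcendence degree are
`k`-isomorphic. -/
theorem exists_ringEquiv_of_trdeg_eq (k K₁ K₂ : Type u) [Field k] [Field K₁] [Field K₂]
    [Algebra k K₁] [Algebra k K₂] [IsAlgClosed K₁] [IsAlgClosed K₂]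
    (h : Algebra.trdeg k K₁ = Algebra.trdeg k K₂) :
    ∃ e : K₁ ≃+* K₂, ∀ c : k, e (algebraMap k K₁ c) = algebraMap k K₂ c := by
  obtain ⟨s₁, hs₁⟩ := exists_isTranscendenceBasis k K₁
  obtain ⟨s₂, hs₂⟩ := exists_isTranscendenceBasis k K₂
  have hcard : #s₁ = #s₂ := by
    rw [hs₁.cardinalMk_eq_trdeg, hs₂.cardinalMk_eq_trdeg, h]
  obtain ⟨eqv⟩ := Cardinal.eq.mp hcard
  haveI := IsAlgClosed.isAlgClosure_of_transcendence_basis _ hs₁
  haveI := IsAlgClosed.isAlgClosure_of_transcendence_basis _ hs₂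
  let e₀ : Algebra.adjoin k (Set.range ((↑) : s₁ → K₁)) ≃ₐ[k]
      Algebra.adjoin k (Set.range ((↑) : s₂ → K₂)) :=
    hs₁.1.aevalEquiv.symm.trans ((MvPolynomial.renameEquiv k eqv).trans hs₂.1.aevalEquiv)
  refine ⟨IsAlgClosure.equivOfEquiv K₁ K₂ e₀.toRingEquiv, fun c => ?_⟩
  have h1 : algebraMap k K₁ c =
      algebraMap (Algebra.adjoin k (Set.range ((↑) : s₁ → K₁))) K₁ (algebraMap k _ c) := rfl
  rw [h1, IsAlgClosure.equivOfEquiv_algebraMap]
  have h2 : e₀.toRingEquiv (algebraMap k _ c) = algebraMap k _ c := e₀.commutes c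
  rw [h2]
  rfl

theorem trdeg_comp (k L K' : Type u) [Field k] [Field L] [Field K'] [Algebra L K'] (a : k →+* L)
    (c : Cardinal.{u}) (hc : Algebra.trdeg L K' = c) (h1 : ℵ₀ ≤ c) (h2 : #L ≤ c) :
    letI : Algebra k K' := ((algebraMap L K').comp a).toAlgebra
    Algebra.trdeg k K' = c := by
  letI : Algebra k L := a.toAlgebra
  letI : Algebra k K' := ((algebraMap L K').comp a).toAlgebra
  haveI : IsScalarTower k L K' := IsScalarTower.of_algebraMap_eq (fun _ => rfl)
  show Algebra.trdeg k K' = c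
  have h3 : Algebra.trdeg k L + Algebra.trdeg L K' = Algebra.trdeg k K' :=
    trdeg_add_eq k L
  have h5 : Algebra.trdeg k L ≤ #L := by
    obtain ⟨s, hs⟩ := exists_isTranscendenceBasis k L
    rw [← hs.cardinalMk_eq_trdeg]
    exact Cardinal.mk_set_le s
  rw [← h3, hc]
  exact Cardinal.add_eq_right h1 (h5.trans h2)

/-- the big field -/
abbrev Big (L : Type u) [Field L] : Type u :=
  AlgebraicClosure (FractionRing (MvPolynomial (ℕ × L) L))

theorem trdeg_big (L : Type u) [Field L] : Algebra.trdeg L (Big L) = #(ℕ × L) := by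
  haveI : FaithfulSMul (MvPolynomial (ℕ × L) L) (Big L) := by
    rw [faithfulSMul_iff_algebraMap_injective,
      IsScalarTower.algebraMap_eq (MvPolynomial (ℕ × L) L)
        (FractionRing (MvPolynomial (ℕ × L) L)) (Big L)]
    exact (algebraMap (FractionRing (MvPolynomial (ℕ × L) L)) (Big L)).injective.comp
      (IsFractionRing.injective _ _)
  have h2 : Algebra.trdeg L (MvPolynomial (ℕ × L) L) + Algebra.trdeg (MvPolynomial (ℕ × L) L) (Big L)
      = Algebra.trdeg L (Big L) := trdeg_add_eq L (MvPolynomial (ℕ × L) L)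
  haveI : Algebra.IsAlgebraic (MvPolynomial (ℕ × L) L) (FractionRing (MvPolynomial (ℕ × L) L)) :=
    IsLocalization.isAlgebraic _ (nonZeroDivisors (MvPolynomial (ℕ × L) L))
  haveI : Algebra.IsAlgebraic (MvPolynomial (ℕ × L) L) (Big L) :=
    Algebra.IsAlgebraic.trans (MvPolynomial (ℕ × L) L) (FractionRing (MvPolynomial (ℕ × L) L)) (Big L)
  have h3 : Algebra.trdeg (MvPolynomial (ℕ × L) L) (Big L) = 0 := trdeg_eq_zero
  have h4 : Algebra.trdeg L (MvPolynomial (ℕ × L) L) = #(ℕ × L) := by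
    rw [MvPolynomial.trdeg_of_isDomain, lift_id]
  rw [h3, add_zero, h4] at h2
  exact h2.symm

theorem exists_conj (k L : Type u) [Field k] [Field L] (a b : k →+* L) :
    ∃ (K' : Type u) (_ : Field K') (_ : IsAlgClosed K') (θ : L →+* K') (β : K' ≃+* K'),
      ∀ c, β (θ (a c)) = θ (b c) := by
  have h1 : ℵ₀ ≤ #(ℕ × L) := by
    rw [Cardinal.aleph0_le_mk_iff]
    infer_instance
  have h2 : #L ≤ #(ℕ × L) := Cardinal.mk_le_of_injective (f := fun x => ((0 : ℕ), x))
    (fun x y h => (Prod.mk.inj h).2)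
  have ha := trdeg_comp k L (Big L) a _ (trdeg_big L) h1 h2
  have hb := trdeg_comp k L (Big L) b _ (trdeg_big L) h1 h2
  obtain ⟨e, he⟩ := @exists_ringEquiv_of_trdeg_eq k (Big L) (Big L) _ _ _
    ((algebraMap L (Big L)).comp a).toAlgebra ((algebraMap L (Big L)).comp b).toAlgebra _ _
    (ha.trans hb.symm)
  exact ⟨Big L, inferInstance, inferInstance, algebraMap L (Big L), e, he⟩

end Groth.Agent.Lib.Helper24.Unibranch
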