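import Mathlib
import Groth.Prelude.Def_Grpd
import Groth.Agent.Lib.Helper24.Unibranch.Main
import Groth.Agent.Lib.Helper22.LocTriv
import Groth.Agent.Lib.Helper15.GeomDesc
import Groth.Agent.Lib.Helper4.GrpdDense
import Groth.Agent.Lib.Helper4.GrpdSubmon

/-!
# The component through the identity is geometrically irreducible (helper24)
-/

set_option autoImplicit false
set_option linter.style.haveILetI false
universe u
open CategoryTheory AlgebraicGeometry Limits

namespace Groth.Agent.Lib.Helper24.Unibranch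

open Grpd Groth.Agent.Lib.Helper4.GrpdCalc

variable {S : Scheme.{u}} (G : GroupoidScheme S) (k : Type u) [Field k]
  (eU : G.U ≅ Spec (CommRingCat.of k))

include eU in
theorem preimage_closure_eq {K : Type u} [Field K] [IsAlgClosed K]
    (σ : Spec (CommRingCat.of K) ⟶ G.U) (hcl : IsClosedMap (pullback.fst G.t σ))
    (ξ : G.R) (hξ : IsMaxPt ξ)
    (he : G.e (eU.inv (IsLocalRing.closedPoint k)) ∈ closure ({ξ} : Set G.R)) :
    ∃ η₀ : ↥(pullback G.t σ),
      pullback.fst G.t σ ⁻¹' closure ({ξ} : Set G.R) = closure ({η₀} : Set ↥(pullback G.t σ)) := by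
  haveI := subsingleton_U G k eU
  haveI : Flat σ := flat_toU G k eU σ
  set p₁ := pullback.fst G.t σ with hp₁
  have hgen : GeneralizingMap p₁ := Flat.generalizingMap p₁
  obtain ⟨pt⟩ := (inferInstance : Nonempty ↥(Spec (CommRingCat.of K)))
  have hy₀ : p₁ (eps G σ pt) = G.e (eU.inv (IsLocalRing.closedPoint k)) := by
    rw [← Scheme.Hom.comp_apply, eps_fst, Scheme.Hom.comp_apply]
    congr 1
    exact Subsingleton.elim _ _
  have hU₀ : UMax (eps G σ pt) := P_all G k eU σ pt
  have hUe : UMax (G.e (eU.inv (IsLocalRing.closedPoint k))) := uMax_all G k eU _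
  obtain ⟨η₀, hη₀s, hη₀m⟩ := exists_maxPt (eps G σ pt)
  have hξe : ξ ⤳ G.e (eU.inv (IsLocalRing.closedPoint k)) := specializes_iff_mem_closure.mpr he
  have e1 : p₁ η₀ = ξ :=
    hUe _ _ (hy₀ ▸ hη₀s.map p₁.continuous) hξe (hη₀m.map hgen) hξ
  refine ⟨η₀, Set.Subset.antisymm ?_ ?_⟩
  · intro w hw
    have hw' : ξ ⤳ p₁ w := specializes_iff_mem_closure.mpr hw
    obtain ⟨w', hw's, hw'e⟩ := hgen hw'
    obtain ⟨w'', hs'', hm''⟩ := exists_maxPt w'
    have e2 : p₁ w'' = ξ := hξ _ (hw'e ▸ hs''.map p₁.continuous)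
    have hclosed : IsClosed (p₁ '' closure ({w''} : Set ↥(pullback G.t σ))) :=
      hcl _ isClosed_closure
    have hsub : closure ({ξ} : Set G.R) ⊆ p₁ '' closure ({w''} : Set ↥(pullback G.t σ)) :=
      closure_minimal (Set.singleton_subset_iff.mpr ⟨w'', subset_closure rfl, e2⟩) hclosed
    obtain ⟨w₀, hw₀c, hw₀e⟩ := hsub he
    have hw₀r : w₀ ∈ Set.range (eps G σ) := mem_range_eps G w₀ (by
      rw [← hp₁, hw₀e]; exact ⟨_, rfl⟩)
    obtain ⟨pt', rfl⟩ := hw₀r
    rw [Subsingleton.elim pt' pt] at hw₀c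
    have h3 : w'' ⤳ eps G σ pt := specializes_iff_mem_closure.mpr hw₀c
    have h4 : w'' = η₀ := hU₀ _ _ h3 hη₀s hm'' hη₀m
    rw [← specializes_iff_mem_closure, ← h4]
    exact hs''.trans hw's
  · apply closure_minimal _ (isClosed_closure.preimage p₁.continuous)
    rw [Set.singleton_subset_iff]
    show p₁ η₀ ∈ closure ({ξ} : Set G.R)
    rw [e1]
    exact subset_closure rfl

include eU in
theorem geomIrr_t {Z : Scheme.{u}} (ι : Z ⟶ G.R) [IsClosedImmersion ι] (ξ : G.R) (hξ : IsMaxPt ξ)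
    (hr : Set.range ι = closure ({ξ} : Set G.R))
    (he : G.e (eU.inv (IsLocalRing.closedPoint k)) ∈ Set.range ι) :
    GeometricallyIrreducible (ι ≫ G.t ≫ eU.hom) := by
  let K := AlgebraicClosure k
  let a : Spec (CommRingCat.of K) ⟶ Spec (CommRingCat.of k) :=
    Spec.map (CommRingCat.ofHom (algebraMap k K))
  let σ : Spec (CommRingCat.of K) ⟶ G.U := a ≫ eU.inv
  haveI : IsIntegralHom a :=
    IsIntegralHom.SpecMap_iff.mpr (algebraMap_isIntegral_iff.mpr inferInstance)
  haveI : IsIntegralHom σ := inferInstance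
  have hcl : IsClosedMap (pullback.fst G.t σ) := (pullback.fst G.t σ).isClosedMap
  obtain ⟨η₀, hη₀⟩ := preimage_closure_eq G k eU σ hcl ξ hξ (hr ▸ he)
  set f := ι ≫ G.t ≫ eU.hom with hf
  have hQ : IsPullback (pullback.fst f a) (pullback.snd f a) (ι ≫ G.t) σ :=
    (IsPullback.of_hasPullback f a).of_iso (Iso.refl _) (Iso.refl _) (Iso.refl _) eU.symm
      (by simp) (by simp) (by simp [hf]) (by simp [σ])
  let m : pullback f a ⟶ pullback G.t σ :=
    pullback.lift (pullback.fst f a ≫ ι) (pullback.snd f a) (by rw [Category.assoc]; exact hQ.w)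
  have hm : IsPullback m (pullback.fst f a) (pullback.fst G.t σ) ι := by
    refine IsPullback.of_right ?_ (pullback.lift_fst _ _ _) (IsPullback.of_hasPullback G.t σ).flip
    rw [pullback.lift_snd]
    exact hQ.flip
  haveI : IsClosedImmersion m :=
    MorphismProperty.of_isPullback (P := @IsClosedImmersion) hm.flip inferInstance
  have hrange : Set.range m = closure ({η₀} : Set ↥(pullback G.t σ)) := by
    rw [← hη₀, ← hr, ← Scheme.Pullback.range_fst, ← hm.isoPullback_hom_fst,
      Scheme.Hom.comp_base, TopCat.coe_comp, Set.range_comp,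
      Set.range_eq_univ.mpr hm.isoPullback.hom.surjective, Set.image_univ]
  obtain ⟨q₀, hq₀⟩ : η₀ ∈ Set.range m := by rw [hrange]; exact subset_closure rfl
  have huniv : closure ({q₀} : Set ↥(pullback f a)) = Set.univ := by
    rw [m.isEmbedding.isInducing.closure_eq_preimage_closure_image, Set.image_singleton, hq₀,
      ← hrange]
    exact Set.preimage_range _
  haveI : IrreducibleSpace ↥(pullback f a) := by
    rw [irreducibleSpace_def]
    show IsIrreducible (Set.univ : Set ↥(pullback f a))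
    rw [← huniv]
    exact isIrreducible_singleton.closure
  have h : GeometricallyIrreducible (pullback.snd f a) :=
    Groth.Agent.Lib.Helper22.LocTriv.geometricallyIrreducible_of_isAlgClosed (k := K)
      (pullback.snd f a)
  rw [GeometricallyIrreducible.eq_geometrically] at h ⊢
  exact Groth.Agent.Lib.Helper15.GeomDesc.geometrically_of_bc
    (@fun L Ω _ _ φ Y Z p q s hZ hc =>
      Groth.Agent.Lib.Helper15.GeomDesc.irreducible_descends φ p q s hZ hc) f h

include eU in
theorem main7516 (Z : Scheme.{u}) (ι : Z ⟶ G.R) [IsClosedImmersion ι] [IrreducibleSpace Z]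
    (hZ : Set.range ⇑ι ∈ irreducibleComponents ↥G.R)
    (he : G.e (eU.inv (IsLocalRing.closedPoint k)) ∈ Set.range ⇑ι) :
    GeometricallyIrreducible (ι ≫ G.s ≫ eU.hom) ∧ GeometricallyIrreducible (ι ≫ G.t ≫ eU.hom) := by
  obtain ⟨ξ, hg⟩ : ∃ ξ : G.R, IsGenericPoint ξ (Set.range ⇑ι) :=
    ⟨_, hZ.1.isGenericPoint_genericPoint (isClosed_of_mem_irreducibleComponents _ hZ)⟩
  have hξ : IsMaxPt ξ := isMaxPt_of_isGenericPoint hZ hg
  refine ⟨?_, geomIrr_t G k eU ι _ hξ hg.def.symm he⟩
  haveI : IsIso G.i := Groth.Agent.Lib.Helper4.GrpdDense.isIso_i G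
  have h1 : ι ≫ G.s ≫ eU.hom = (ι ≫ G.i) ≫ G.t ≫ eU.hom := by
    rw [Category.assoc, ← Category.assoc G.i, G.i_t]
  rw [h1]
  have hgen : GeneralizingMap G.i := Flat.generalizingMap G.i
  refine geomIrr_t G k eU (ι ≫ G.i) (G.i ξ) (hξ.map hgen) ?_ ?_
  · rw [Scheme.Hom.comp_base, TopCat.coe_comp, Set.range_comp, hg.def.symm]
    have := G.i.homeomorph.image_closure ({ξ} : Set G.R)
    rw [Set.image_singleton] at this
    exact this
  · obtain ⟨z, hz⟩ := he
    refine ⟨z, ?_⟩
    rw [Scheme.Hom.comp_apply, hz, ← Scheme.Hom.comp_apply,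
      Groth.Agent.Lib.Helper4.GrpdSubmon.e_i]

end Groth.Agent.Lib.Helper24.Unibranch
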