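import Mathlib
import Groth.Prelude.Def_Grpd
import Groth.Agent.Lib.Helper24.Unibranch.FieldConj

/-!
# A point of the restriction with trivial residue field extensions (helper24)
-/

set_option autoImplicit false
set_option linter.style.haveILetI false
universe u
open CategoryTheory AlgebraicGeometry Limits

namespace Groth.Agent.Lib.Helper24.Unibranch

open Grpd

/-- If `m ≫ f` is an isomorphism for a field-valued point `m`, then `f` induces an isomorphism
of residue fields at the image point. -/
theorem isIso_residueFieldMap_of_isIso_comp {X Y T : Scheme.{u}} (f : X ⟶ Y) (m : T ⟶ X)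
    [IsIso (m ≫ f)] (pt : T) : IsIso (f.residueFieldMap (m pt)) := by
  have h1 : (m ≫ f).residueFieldMap pt = f.residueFieldMap (m pt) ≫ m.residueFieldMap pt :=
    Scheme.residueFieldMap_comp m f pt
  have h2 : IsIso ((m ≫ f).residueFieldMap pt) := inferInstance
  rw [h1] at h2
  have hbij : Function.Bijective (f.residueFieldMap (m pt) ≫ m.residueFieldMap pt).hom :=
    (ConcreteCategory.isIso_iff_bijective _).mp h2
  have hinj : Function.Injective (m.residueFieldMap pt).hom :=
    (m.residueFieldMap pt).hom.injective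
  refine (ConcreteCategory.isIso_iff_bijective _).mpr
    ⟨(f.residueFieldMap (m pt)).hom.injective, ?_⟩
  intro y
  obtain ⟨z, hz⟩ := hbij.2 ((m.residueFieldMap pt).hom y)
  exact ⟨z, hinj hz⟩

variable {S : Scheme.{u}} (G : GroupoidScheme S) (k : Type u) [Field k]
  (eU : G.U ≅ Spec (CommRingCat.of k))

theorem main7493 (r : G.R) :
    ∃ (k' : Type u) (_ : Field k') (_ : IsAlgClosed k') (_ : Algebra k k'),
      ∃ r' : ↑(pullback (pullback.snd (Spec.map (CommRingCat.ofHom (algebraMap k k')) ≫ eU.inv) G.t ≫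
          G.s) (Spec.map (CommRingCat.ofHom (algebraMap k k')) ≫ eU.inv)),
        (pullback.fst (pullback.snd (Spec.map (CommRingCat.ofHom (algebraMap k k')) ≫ eU.inv) G.t ≫
          G.s) (Spec.map (CommRingCat.ofHom (algebraMap k k')) ≫ eU.inv) ≫
            pullback.snd (Spec.map (CommRingCat.ofHom (algebraMap k k')) ≫ eU.inv) G.t) r' = r ∧
        IsIso ((pullback.snd (pullback.snd (Spec.map (CommRingCat.ofHom (algebraMap k k')) ≫
          eU.inv) G.t ≫ G.s) (Spec.map (CommRingCat.ofHom (algebraMap k k')) ≫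
            eU.inv)).residueFieldMap r') ∧
        IsIso ((pullback.fst (pullback.snd (Spec.map (CommRingCat.ofHom (algebraMap k k')) ≫
          eU.inv) G.t ≫ G.s) (Spec.map (CommRingCat.ofHom (algebraMap k k')) ≫ eU.inv) ≫
            pullback.fst (Spec.map (CommRingCat.ofHom (algebraMap k k')) ≫
              eU.inv) G.t).residueFieldMap r') := by
  let L : Type u := G.R.residueField r
  let ρ₀ : Spec (CommRingCat.of L) ⟶ G.R := G.R.fromSpecResidueField r
  obtain ⟨a', ha'⟩ := Spec.map_surjective (ρ₀ ≫ G.t ≫ eU.hom)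
  obtain ⟨b', hb'⟩ := Spec.map_surjective (ρ₀ ≫ G.s ≫ eU.hom)
  obtain ⟨k', _, _, θ, β, hβ⟩ := exists_conj k L a'.hom b'.hom
  letI : Algebra k k' := (θ.comp a'.hom).toAlgebra
  refine ⟨k', inferInstance, inferInstance, inferInstance, ?_⟩
  set g' : Spec (CommRingCat.of k') ⟶ G.U :=
    Spec.map (CommRingCat.ofHom (algebraMap k k')) ≫ eU.inv with hg'
  let ρ : Spec (CommRingCat.of k') ⟶ G.R := Spec.map (CommRingCat.ofHom θ) ≫ ρ₀
  have hρt : ρ ≫ G.t = g' := by
    have h1 : ρ₀ ≫ G.t = Spec.map a' ≫ eU.inv := by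
      rw [ha', Category.assoc, Category.assoc, Iso.hom_inv_id, Category.comp_id]
    rw [hg', Category.assoc, h1, ← Category.assoc, ← Spec.map_comp]
    rfl
  have hρs : ρ ≫ G.s = Spec.map (CommRingCat.ofHom (β : k' →+* k')) ≫ g' := by
    have h1 : ρ₀ ≫ G.s = Spec.map b' ≫ eU.inv := by
      rw [hb', Category.assoc, Category.assoc, Iso.hom_inv_id, Category.comp_id]
    rw [hg', Category.assoc, h1, ← Category.assoc, ← Category.assoc, ← Spec.map_comp,
      ← Spec.map_comp]
    congr 2
    ext c
    exact (hβ c).symm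
  have hρpt : ∀ pt, ρ pt = r := fun pt => by
    rw [Scheme.Hom.comp_apply]
    exact Scheme.fromSpecResidueField_apply _ _
  clear_value ρ
  let m₁ : Spec (CommRingCat.of k') ⟶ pullback g' G.t :=
    pullback.lift (𝟙 _) ρ (by rw [Category.id_comp, hρt])
  let m : Spec (CommRingCat.of k') ⟶ pullback (pullback.snd g' G.t ≫ G.s) g' :=
    pullback.lift m₁ (Spec.map (CommRingCat.ofHom (β : k' →+* k')))
      (by rw [← Category.assoc, pullback.lift_snd, hρs])
  haveI : IsIso (Spec.map (CommRingCat.ofHom (β : k' →+* k'))) := by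
    have : IsIso (CommRingCat.ofHom (β : k' →+* k')) :=
      (ConcreteCategory.isIso_iff_bijective _).mpr β.bijective
    infer_instance
  have hm_s : m ≫ pullback.snd (pullback.snd g' G.t ≫ G.s) g' =
      Spec.map (CommRingCat.ofHom (β : k' →+* k')) := pullback.lift_snd _ _ _
  have hm_t : m ≫ pullback.fst (pullback.snd g' G.t ≫ G.s) g' ≫ pullback.fst g' G.t = 𝟙 _ := by
    rw [← Category.assoc, pullback.lift_fst, pullback.lift_fst]
  have hm_r : m ≫ pullback.fst (pullback.snd g' G.t ≫ G.s) g' ≫ pullback.snd g' G.t = ρ := by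
    rw [← Category.assoc, pullback.lift_fst, pullback.lift_snd]
  refine ⟨m (IsLocalRing.closedPoint k'), ?_, ?_, ?_⟩
  · rw [← Scheme.Hom.comp_apply, hm_r, hρpt]
  · haveI : IsIso (m ≫ pullback.snd (pullback.snd g' G.t ≫ G.s) g') := by rw [hm_s]; infer_instance
    exact isIso_residueFieldMap_of_isIso_comp _ m _
  · haveI : IsIso (m ≫ pullback.fst (pullback.snd g' G.t ≫ G.s) g' ≫ pullback.fst g' G.t) := by
      rw [hm_t]; infer_instance
    exact isIso_residueFieldMap_of_isIso_comp _ m _

end Groth.Agent.Lib.Helper24.Unibranch
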